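import Cfsg.Agent.HNA12.Rels
import Cfsg.Agent.HNSub.Rep
import Cfsg.Agent.LyLocal.AltCover
import Cfsg.Prelude.Def_Sporadic

/-!
An alternating group of degree twelve inside the presented Harada–Norton group, granted its simplicity:
ten given words satisfy Carmichael's relations in the faithful representation of degree 133.
-/

set_option autoImplicit false
set_option maxRecDepth 100000

namespace Cfsg.Agent.HNA12

open Cfsg.Agent.HNSub Cfsg.Agent.CosetCert Cfsg.Spor Equiv

/-- A letter from its number. -/
def letter (x : Nat) : HN.Gen × Bool :=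
  ([HN.Gen.x, HN.Gen.y, HN.Gen.z, HN.Gen.t].getD (x % 4) HN.Gen.x, Nat.blt x 4)

theorem aw_letters : ∀ i, i < 10 → ((aw.getD i []).map letter).map lcode = aw.getD i [] := by
  decide +kernel

theorem good_check : ((List.range 18).all fun x => goodC 133 (rowsOf 133 (g18 x))) = true := by
  decide +kernel

theorem good_g18 (x : Nat) : Good 133 (rowsOf 133 (g18 x)) := by
  by_cases hx : x < 18
  · exact good_of_check (List.all_eq_true.1 good_check x (List.mem_range.2 hx))
  · have h : g18 x = g18 0 := by
      rw [g18, List.getD_eq_default _ _ (by simp; omega)]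
      rfl
    rw [h]
    exact good_of_check (List.all_eq_true.1 good_check 0 (List.mem_range.2 (by norm_num)))

/-- The matrices of the eighteen letters. -/
noncomputable def A18 (x : Nat) : Matrix (Fin 133) (Fin 133) (ZMod 41) :=
  toMat 133 (rowsOf 133 (g18 x))

theorem part_spec {G : Nat → List Blk} (hG : ∀ x, Good 133 (rowsOf 133 (G x))) {T w : List Nat}
    (hT : T.length ≤ 140) (h : ∀ k, k < 5 → partB G T w k = true) :
    (w.map fun x => toMat 133 (rowsOf 133 (G x))).prod = toMat 133 T := by
  have h1 := rowW_spec (n := 133) (by norm_num) G hG w id133 good_id133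
  rw [← mask133_eq, map_eq_of_parts hT h, toMat_id133, one_mul] at h1
  exact h1.symm

theorem rel_spec {w : List Nat} (h : ∀ k, k < 5 → partB g18 id133 w k = true) :
    (w.map A18).prod = 1 := by
  have h1 := part_spec good_g18 (by rw [good_id133.1]; norm_num) h
  rwa [toMat_id133] at h1

/-- The ten elements. -/
def elem (i : Fin 10) : PresentedGroup hnRels :=
  PresentedGroup.mk hnRels (FreeGroup.mk ((aw.getD i []).map letter))

theorem rep_elem (i : Fin 10) :
    ((hnRep (elem i) : (Matrix (Fin 133) (Fin 133) (ZMod 41))ˣ) : Matrix (Fin 133) (Fin 133) (ZMod 41)) =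
      A18 (8 + i) := by
  have e : hnRep (elem i) = FreeGroup.lift unit133 (FreeGroup.mk ((aw.getD i []).map letter)) := rfl
  rw [e, coe_lift133, aw_letters i i.isLt]
  exact part_spec good_m133 (by rw [(good_g18 _).1]; norm_num) (prodB i i.isLt)

theorem elem_ne_check : ((List.range 133).any fun r => (List.range 133).any fun c =>
    !(Nat.beq (fieldN ((rowsOf 133 (g18 8)).getD r 0) c % 41) (fieldN (id133.getD r 0) c % 41))) = true := by
  decide +kernel

theorem rep_elem_ne : hnRep (elem 0) ≠ 1 := by
  intro h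
  have h1 : A18 (8 + (0 : Fin 10)) = toMat 133 id133 := by
    rw [toMat_id133, ← rep_elem, h, Units.val_one]
  obtain ⟨r, hr, h2⟩ := List.any_eq_true.1 elem_ne_check
  obtain ⟨c, hc, hne⟩ := List.any_eq_true.1 h2
  have e := congrFun (congrFun h1 ⟨r, List.mem_range.1 hr⟩) ⟨c, List.mem_range.1 hc⟩
  simp only [A18, toMat, Matrix.of_apply, ZMod.natCast_eq_natCast_iff', Fin.val_zero, Nat.add_zero] at e
  rw [e, Nat.beq_refl] at hne
  simp at hne

/-- The index of one of the ten points. -/
def idx (x : ShortPres.Rest (0 : Fin 12) 1) : Fin 10 :=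
  ⟨(x.1 : ℕ) - 2, by have := x.1.isLt; omega⟩

theorem idx_injective : Function.Injective idx := by
  intro a b h
  have ha0 : (a.1 : ℕ) ≠ 0 := fun e => a.2.1 (Fin.ext e)
  have ha1 : (a.1 : ℕ) ≠ 1 := fun e => a.2.2 (Fin.ext e)
  have hb0 : (b.1 : ℕ) ≠ 0 := fun e => b.2.1 (Fin.ext e)
  have hb1 : (b.1 : ℕ) ≠ 1 := fun e => b.2.2 (Fin.ext e)
  have h' : (a.1 : ℕ) - 2 = (b.1 : ℕ) - 2 := congrArg Fin.val h
  exact Subtype.ext (Fin.ext (by omega))

/-- The alternating group of degree twelve embeds, granted that the group is HN. -/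
theorem exists_alt_hom (hG : Cfsg.IsHN Cfsg.Spor.HN) :
    ∃ φ : alternatingGroup (Fin 12) →* PresentedGroup hnRels, Function.Injective φ := by
  have hs : IsSimpleGroup (PresentedGroup hnRels) := hG.1
  have hrepinj : Function.Injective hnRep := by
    rw [← MonoidHom.ker_eq_bot_iff]
    rcases hs.eq_bot_or_eq_top_of_normal hnRep.ker hnRep.normal_ker with h | h
    · exact h
    · exact absurd (MonoidHom.mem_ker.1 (h ▸ Subgroup.mem_top (elem 0))) rep_elem_ne
  have hcube : ∀ i, elem i ^ 3 = 1 := by
    intro i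
    apply hrepinj
    refine Units.ext ?_
    have h := rel_spec (cubeB i i.isLt)
    simp only [List.map_cons, List.map_nil, List.prod_cons, List.prod_nil, mul_one, ← rep_elem i] at h
    rw [map_pow, map_one, Units.val_pow_eq_pow_val, Units.val_one, pow_three]
    exact h
  have hlt : ∀ i j : Fin 10, i < j → (elem i * elem j) ^ 2 = 1 := by
    intro i j hij
    apply hrepinj
    refine Units.ext ?_
    have h := rel_spec (pairB i j hij j.isLt)
    simp only [List.map_cons, List.map_nil, List.prod_cons, List.prod_nil, mul_one, ← rep_elem i,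
      ← rep_elem j] at h
    rw [map_pow, map_one, Units.val_pow_eq_pow_val, Units.val_one, map_mul, Units.val_mul, pow_two, mul_assoc]
    exact h
  have hsq : ∀ i j : Fin 10, i ≠ j → (elem i * elem j) ^ 2 = 1 := by
    intro i j hij
    rcases lt_or_gt_of_ne hij with h | h
    · exact hlt i j h
    · exact ShortPres.sq_flip (hlt j i h)
  have hrel : ∀ r ∈ LyLocal.carmRels (0 : Fin 12) 1, FreeGroup.lift (fun x => elem (idx x)) r = 1 := by
    rintro r (⟨x, rfl⟩ | ⟨x, y, hxy, rfl⟩)
    · rw [map_pow, FreeGroup.lift_apply_of]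
      exact hcube _
    · rw [map_pow, map_mul, FreeGroup.lift_apply_of, FreeGroup.lift_apply_of]
      exact hsq _ _ fun h => hxy (idx_injective h)
  obtain ⟨e, -⟩ := LyLocal.carm_iso (show (0 : Fin 12) ≠ 1 by decide)
  refine ⟨(PresentedGroup.toGroup hrel).comp e.symm.toMonoidHom, ?_⟩
  have : IsSimpleGroup (alternatingGroup (Fin 12)) := alternatingGroup.isSimpleGroup (by simp)
  rw [← MonoidHom.ker_eq_bot_iff]
  rcases this.eq_bot_or_eq_top_of_normal
    ((PresentedGroup.toGroup hrel).comp e.symm.toMonoidHom).ker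
    (MonoidHom.normal_ker ((PresentedGroup.toGroup hrel).comp e.symm.toMonoidHom)) with h | h
  · exact h
  · exfalso
    have hm : ((PresentedGroup.toGroup hrel).comp e.symm.toMonoidHom)
        (e (PresentedGroup.of ⟨2, by decide⟩)) = 1 := by
      rw [← MonoidHom.mem_ker, h]
      exact Subgroup.mem_top _
    rw [MonoidHom.comp_apply, MulEquiv.coe_toMonoidHom, MulEquiv.symm_apply_apply, PresentedGroup.toGroup.of] at hm
    exact rep_elem_ne (by
      rw [show (0 : Fin 10) = idx ⟨2, by decide⟩ from rfl, hm, map_one])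

end Cfsg.Agent.HNA12
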