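import Cfsg.Agent.HNA12.Chunk

/-! Generated: kernel checks. -/

set_option Elab.async false
set_option maxRecDepth 100000

namespace Cfsg.Agent.HNA12

open Cfsg.Agent.HNSub

theorem prod8_part0 : partB m133 (rowsOf 133 am8) (aw.getD 8 []) 0 = true := by decide +kernel

theorem prod8_part1 : partB m133 (rowsOf 133 am8) (aw.getD 8 []) 1 = true := by decide +kernel

theorem prod8_part2 : partB m133 (rowsOf 133 am8) (aw.getD 8 []) 2 = true := by decide +kernel

theorem prod8_part3 : partB m133 (rowsOf 133 am8) (aw.getD 8 []) 3 = true := by decide +kernel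

theorem prod8_part4 : partB m133 (rowsOf 133 am8) (aw.getD 8 []) 4 = true := by decide +kernel

theorem prod8 : ∀ k, k < 5 → partB m133 (rowsOf 133 am8) (aw.getD 8 []) k = true
  | 0, _ => prod8_part0
  | 1, _ => prod8_part1
  | 2, _ => prod8_part2
  | 3, _ => prod8_part3
  | 4, _ => prod8_part4
  | k + 5, h => absurd h (by omega)

theorem pair0_8_part0 : partB g18 id133 [8, 16, 8, 16] 0 = true := by decide +kernel

theorem pair0_8_part1 : partB g18 id133 [8, 16, 8, 16] 1 = true := by decide +kernel

theorem pair0_8_part2 : partB g18 id133 [8, 16, 8, 16] 2 = true := by decide +kernel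

theorem pair0_8_part3 : partB g18 id133 [8, 16, 8, 16] 3 = true := by decide +kernel

theorem pair0_8_part4 : partB g18 id133 [8, 16, 8, 16] 4 = true := by decide +kernel

theorem pair0_8 : ∀ k, k < 5 → partB g18 id133 [8, 16, 8, 16] k = true
  | 0, _ => pair0_8_part0
  | 1, _ => pair0_8_part1
  | 2, _ => pair0_8_part2
  | 3, _ => pair0_8_part3
  | 4, _ => pair0_8_part4
  | k + 5, h => absurd h (by omega)

theorem cube9_part0 : partB g18 id133 [17, 17, 17] 0 = true := by decide +kernel

theorem cube9_part1 : partB g18 id133 [17, 17, 17] 1 = true := by decide +kernel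

theorem cube9_part2 : partB g18 id133 [17, 17, 17] 2 = true := by decide +kernel

theorem cube9_part3 : partB g18 id133 [17, 17, 17] 3 = true := by decide +kernel

theorem cube9_part4 : partB g18 id133 [17, 17, 17] 4 = true := by decide +kernel

theorem cube9 : ∀ k, k < 5 → partB g18 id133 [17, 17, 17] k = true
  | 0, _ => cube9_part0
  | 1, _ => cube9_part1
  | 2, _ => cube9_part2
  | 3, _ => cube9_part3
  | 4, _ => cube9_part4
  | k + 5, h => absurd h (by omega)

theorem cube2_part0 : partB g18 id133 [10, 10, 10] 0 = true := by decide +kernel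

theorem cube2_part1 : partB g18 id133 [10, 10, 10] 1 = true := by decide +kernel

theorem cube2_part2 : partB g18 id133 [10, 10, 10] 2 = true := by decide +kernel

theorem cube2_part3 : partB g18 id133 [10, 10, 10] 3 = true := by decide +kernel

theorem cube2_part4 : partB g18 id133 [10, 10, 10] 4 = true := by decide +kernel

theorem cube2 : ∀ k, k < 5 → partB g18 id133 [10, 10, 10] k = true
  | 0, _ => cube2_part0
  | 1, _ => cube2_part1
  | 2, _ => cube2_part2
  | 3, _ => cube2_part3
  | 4, _ => cube2_part4
  | k + 5, h => absurd h (by omega)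

end Cfsg.Agent.HNA12
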