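import Cfsg.Agent.HNA12.Chunk

/-! Generated: kernel checks. -/

set_option Elab.async false
set_option maxRecDepth 100000

namespace Cfsg.Agent.HNA12

open Cfsg.Agent.HNSub

theorem prod9_part0 : partB m133 (rowsOf 133 am9) (aw.getD 9 []) 0 = true := by decide +kernel

theorem prod9_part1 : partB m133 (rowsOf 133 am9) (aw.getD 9 []) 1 = true := by decide +kernel

theorem prod9_part2 : partB m133 (rowsOf 133 am9) (aw.getD 9 []) 2 = true := by decide +kernel

theorem prod9_part3 : partB m133 (rowsOf 133 am9) (aw.getD 9 []) 3 = true := by decide +kernel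

theorem prod9_part4 : partB m133 (rowsOf 133 am9) (aw.getD 9 []) 4 = true := by decide +kernel

theorem prod9 : ∀ k, k < 5 → partB m133 (rowsOf 133 am9) (aw.getD 9 []) k = true
  | 0, _ => prod9_part0
  | 1, _ => prod9_part1
  | 2, _ => prod9_part2
  | 3, _ => prod9_part3
  | 4, _ => prod9_part4
  | k + 5, h => absurd h (by omega)

theorem pair0_9_part0 : partB g18 id133 [8, 17, 8, 17] 0 = true := by decide +kernel

theorem pair0_9_part1 : partB g18 id133 [8, 17, 8, 17] 1 = true := by decide +kernel

theorem pair0_9_part2 : partB g18 id133 [8, 17, 8, 17] 2 = true := by decide +kernel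

theorem pair0_9_part3 : partB g18 id133 [8, 17, 8, 17] 3 = true := by decide +kernel

theorem pair0_9_part4 : partB g18 id133 [8, 17, 8, 17] 4 = true := by decide +kernel

theorem pair0_9 : ∀ k, k < 5 → partB g18 id133 [8, 17, 8, 17] k = true
  | 0, _ => pair0_9_part0
  | 1, _ => pair0_9_part1
  | 2, _ => pair0_9_part2
  | 3, _ => pair0_9_part3
  | 4, _ => pair0_9_part4
  | k + 5, h => absurd h (by omega)

theorem pair0_1_part0 : partB g18 id133 [8, 9, 8, 9] 0 = true := by decide +kernel

theorem pair0_1_part1 : partB g18 id133 [8, 9, 8, 9] 1 = true := by decide +kernel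

theorem pair0_1_part2 : partB g18 id133 [8, 9, 8, 9] 2 = true := by decide +kernel

theorem pair0_1_part3 : partB g18 id133 [8, 9, 8, 9] 3 = true := by decide +kernel

theorem pair0_1_part4 : partB g18 id133 [8, 9, 8, 9] 4 = true := by decide +kernel

theorem pair0_1 : ∀ k, k < 5 → partB g18 id133 [8, 9, 8, 9] k = true
  | 0, _ => pair0_1_part0
  | 1, _ => pair0_1_part1
  | 2, _ => pair0_1_part2
  | 3, _ => pair0_1_part3
  | 4, _ => pair0_1_part4
  | k + 5, h => absurd h (by omega)

theorem cube1_part0 : partB g18 id133 [9, 9, 9] 0 = true := by decide +kernel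

theorem cube1_part1 : partB g18 id133 [9, 9, 9] 1 = true := by decide +kernel

theorem cube1_part2 : partB g18 id133 [9, 9, 9] 2 = true := by decide +kernel

theorem cube1_part3 : partB g18 id133 [9, 9, 9] 3 = true := by decide +kernel

theorem cube1_part4 : partB g18 id133 [9, 9, 9] 4 = true := by decide +kernel

theorem cube1 : ∀ k, k < 5 → partB g18 id133 [9, 9, 9] k = true
  | 0, _ => cube1_part0
  | 1, _ => cube1_part1
  | 2, _ => cube1_part2
  | 3, _ => cube1_part3
  | 4, _ => cube1_part4
  | k + 5, h => absurd h (by omega)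

end Cfsg.Agent.HNA12
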