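import Cfsg.Agent.HNA12.Chunk

/-! Generated: kernel checks. -/

set_option Elab.async false
set_option maxRecDepth 100000

namespace Cfsg.Agent.HNA12

open Cfsg.Agent.HNSub

theorem prod7_part0 : partB m133 (rowsOf 133 am7) (aw.getD 7 []) 0 = true := by decide +kernel

theorem prod7_part1 : partB m133 (rowsOf 133 am7) (aw.getD 7 []) 1 = true := by decide +kernel

theorem prod7_part2 : partB m133 (rowsOf 133 am7) (aw.getD 7 []) 2 = true := by decide +kernel

theorem prod7_part3 : partB m133 (rowsOf 133 am7) (aw.getD 7 []) 3 = true := by decide +kernel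

theorem prod7_part4 : partB m133 (rowsOf 133 am7) (aw.getD 7 []) 4 = true := by decide +kernel

theorem prod7 : ∀ k, k < 5 → partB m133 (rowsOf 133 am7) (aw.getD 7 []) k = true
  | 0, _ => prod7_part0
  | 1, _ => prod7_part1
  | 2, _ => prod7_part2
  | 3, _ => prod7_part3
  | 4, _ => prod7_part4
  | k + 5, h => absurd h (by omega)

theorem pair1_6_part0 : partB g18 id133 [9, 14, 9, 14] 0 = true := by decide +kernel

theorem pair1_6_part1 : partB g18 id133 [9, 14, 9, 14] 1 = true := by decide +kernel

theorem pair1_6_part2 : partB g18 id133 [9, 14, 9, 14] 2 = true := by decide +kernel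

theorem pair1_6_part3 : partB g18 id133 [9, 14, 9, 14] 3 = true := by decide +kernel

theorem pair1_6_part4 : partB g18 id133 [9, 14, 9, 14] 4 = true := by decide +kernel

theorem pair1_6 : ∀ k, k < 5 → partB g18 id133 [9, 14, 9, 14] k = true
  | 0, _ => pair1_6_part0
  | 1, _ => pair1_6_part1
  | 2, _ => pair1_6_part2
  | 3, _ => pair1_6_part3
  | 4, _ => pair1_6_part4
  | k + 5, h => absurd h (by omega)

theorem pair0_6_part0 : partB g18 id133 [8, 14, 8, 14] 0 = true := by decide +kernel

theorem pair0_6_part1 : partB g18 id133 [8, 14, 8, 14] 1 = true := by decide +kernel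

theorem pair0_6_part2 : partB g18 id133 [8, 14, 8, 14] 2 = true := by decide +kernel

theorem pair0_6_part3 : partB g18 id133 [8, 14, 8, 14] 3 = true := by decide +kernel

theorem pair0_6_part4 : partB g18 id133 [8, 14, 8, 14] 4 = true := by decide +kernel

theorem pair0_6 : ∀ k, k < 5 → partB g18 id133 [8, 14, 8, 14] k = true
  | 0, _ => pair0_6_part0
  | 1, _ => pair0_6_part1
  | 2, _ => pair0_6_part2
  | 3, _ => pair0_6_part3
  | 4, _ => pair0_6_part4
  | k + 5, h => absurd h (by omega)

theorem cube7_part0 : partB g18 id133 [15, 15, 15] 0 = true := by decide +kernel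

theorem cube7_part1 : partB g18 id133 [15, 15, 15] 1 = true := by decide +kernel

theorem cube7_part2 : partB g18 id133 [15, 15, 15] 2 = true := by decide +kernel

theorem cube7_part3 : partB g18 id133 [15, 15, 15] 3 = true := by decide +kernel

theorem cube7_part4 : partB g18 id133 [15, 15, 15] 4 = true := by decide +kernel

theorem cube7 : ∀ k, k < 5 → partB g18 id133 [15, 15, 15] k = true
  | 0, _ => cube7_part0
  | 1, _ => cube7_part1
  | 2, _ => cube7_part2
  | 3, _ => cube7_part3
  | 4, _ => cube7_part4
  | k + 5, h => absurd h (by omega)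

end Cfsg.Agent.HNA12
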