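import Cfsg.Agent.HNA12.Chunk

/-! Generated: kernel checks. -/

set_option Elab.async false
set_option maxRecDepth 100000

namespace Cfsg.Agent.HNA12

open Cfsg.Agent.HNSub

theorem prod2_part0 : partB m133 (rowsOf 133 am2) (aw.getD 2 []) 0 = true := by decide +kernel

theorem prod2_part1 : partB m133 (rowsOf 133 am2) (aw.getD 2 []) 1 = true := by decide +kernel

theorem prod2_part2 : partB m133 (rowsOf 133 am2) (aw.getD 2 []) 2 = true := by decide +kernel

theorem prod2_part3 : partB m133 (rowsOf 133 am2) (aw.getD 2 []) 3 = true := by decide +kernel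

theorem prod2_part4 : partB m133 (rowsOf 133 am2) (aw.getD 2 []) 4 = true := by decide +kernel

theorem prod2 : ∀ k, k < 5 → partB m133 (rowsOf 133 am2) (aw.getD 2 []) k = true
  | 0, _ => prod2_part0
  | 1, _ => prod2_part1
  | 2, _ => prod2_part2
  | 3, _ => prod2_part3
  | 4, _ => prod2_part4
  | k + 5, h => absurd h (by omega)

theorem pair8_9_part0 : partB g18 id133 [16, 17, 16, 17] 0 = true := by decide +kernel

theorem pair8_9_part1 : partB g18 id133 [16, 17, 16, 17] 1 = true := by decide +kernel

theorem pair8_9_part2 : partB g18 id133 [16, 17, 16, 17] 2 = true := by decide +kernel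

theorem pair8_9_part3 : partB g18 id133 [16, 17, 16, 17] 3 = true := by decide +kernel

theorem pair8_9_part4 : partB g18 id133 [16, 17, 16, 17] 4 = true := by decide +kernel

theorem pair8_9 : ∀ k, k < 5 → partB g18 id133 [16, 17, 16, 17] k = true
  | 0, _ => pair8_9_part0
  | 1, _ => pair8_9_part1
  | 2, _ => pair8_9_part2
  | 3, _ => pair8_9_part3
  | 4, _ => pair8_9_part4
  | k + 5, h => absurd h (by omega)

theorem pair7_8_part0 : partB g18 id133 [15, 16, 15, 16] 0 = true := by decide +kernel

theorem pair7_8_part1 : partB g18 id133 [15, 16, 15, 16] 1 = true := by decide +kernel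

theorem pair7_8_part2 : partB g18 id133 [15, 16, 15, 16] 2 = true := by decide +kernel

theorem pair7_8_part3 : partB g18 id133 [15, 16, 15, 16] 3 = true := by decide +kernel

theorem pair7_8_part4 : partB g18 id133 [15, 16, 15, 16] 4 = true := by decide +kernel

theorem pair7_8 : ∀ k, k < 5 → partB g18 id133 [15, 16, 15, 16] k = true
  | 0, _ => pair7_8_part0
  | 1, _ => pair7_8_part1
  | 2, _ => pair7_8_part2
  | 3, _ => pair7_8_part3
  | 4, _ => pair7_8_part4
  | k + 5, h => absurd h (by omega)

theorem pair6_8_part0 : partB g18 id133 [14, 16, 14, 16] 0 = true := by decide +kernel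

theorem pair6_8_part1 : partB g18 id133 [14, 16, 14, 16] 1 = true := by decide +kernel

theorem pair6_8_part2 : partB g18 id133 [14, 16, 14, 16] 2 = true := by decide +kernel

theorem pair6_8_part3 : partB g18 id133 [14, 16, 14, 16] 3 = true := by decide +kernel

theorem pair6_8_part4 : partB g18 id133 [14, 16, 14, 16] 4 = true := by decide +kernel

theorem pair6_8 : ∀ k, k < 5 → partB g18 id133 [14, 16, 14, 16] k = true
  | 0, _ => pair6_8_part0
  | 1, _ => pair6_8_part1
  | 2, _ => pair6_8_part2
  | 3, _ => pair6_8_part3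
  | 4, _ => pair6_8_part4
  | k + 5, h => absurd h (by omega)

theorem pair5_8_part0 : partB g18 id133 [13, 16, 13, 16] 0 = true := by decide +kernel

theorem pair5_8_part1 : partB g18 id133 [13, 16, 13, 16] 1 = true := by decide +kernel

theorem pair5_8_part2 : partB g18 id133 [13, 16, 13, 16] 2 = true := by decide +kernel

theorem pair5_8_part3 : partB g18 id133 [13, 16, 13, 16] 3 = true := by decide +kernel

theorem pair5_8_part4 : partB g18 id133 [13, 16, 13, 16] 4 = true := by decide +kernel

theorem pair5_8 : ∀ k, k < 5 → partB g18 id133 [13, 16, 13, 16] k = true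
  | 0, _ => pair5_8_part0
  | 1, _ => pair5_8_part1
  | 2, _ => pair5_8_part2
  | 3, _ => pair5_8_part3
  | 4, _ => pair5_8_part4
  | k + 5, h => absurd h (by omega)

theorem pair4_8_part0 : partB g18 id133 [12, 16, 12, 16] 0 = true := by decide +kernel

theorem pair4_8_part1 : partB g18 id133 [12, 16, 12, 16] 1 = true := by decide +kernel

theorem pair4_8_part2 : partB g18 id133 [12, 16, 12, 16] 2 = true := by decide +kernel

theorem pair4_8_part3 : partB g18 id133 [12, 16, 12, 16] 3 = true := by decide +kernel

theorem pair4_8_part4 : partB g18 id133 [12, 16, 12, 16] 4 = true := by decide +kernel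

theorem pair4_8 : ∀ k, k < 5 → partB g18 id133 [12, 16, 12, 16] k = true
  | 0, _ => pair4_8_part0
  | 1, _ => pair4_8_part1
  | 2, _ => pair4_8_part2
  | 3, _ => pair4_8_part3
  | 4, _ => pair4_8_part4
  | k + 5, h => absurd h (by omega)

theorem pair3_9_part0 : partB g18 id133 [11, 17, 11, 17] 0 = true := by decide +kernel

theorem pair3_9_part1 : partB g18 id133 [11, 17, 11, 17] 1 = true := by decide +kernel

theorem pair3_9_part2 : partB g18 id133 [11, 17, 11, 17] 2 = true := by decide +kernel

theorem pair3_9_part3 : partB g18 id133 [11, 17, 11, 17] 3 = true := by decide +kernel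

theorem pair3_9_part4 : partB g18 id133 [11, 17, 11, 17] 4 = true := by decide +kernel

theorem pair3_9 : ∀ k, k < 5 → partB g18 id133 [11, 17, 11, 17] k = true
  | 0, _ => pair3_9_part0
  | 1, _ => pair3_9_part1
  | 2, _ => pair3_9_part2
  | 3, _ => pair3_9_part3
  | 4, _ => pair3_9_part4
  | k + 5, h => absurd h (by omega)

theorem pair3_5_part0 : partB g18 id133 [11, 13, 11, 13] 0 = true := by decide +kernel

theorem pair3_5_part1 : partB g18 id133 [11, 13, 11, 13] 1 = true := by decide +kernel

theorem pair3_5_part2 : partB g18 id133 [11, 13, 11, 13] 2 = true := by decide +kernel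

theorem pair3_5_part3 : partB g18 id133 [11, 13, 11, 13] 3 = true := by decide +kernel

theorem pair3_5_part4 : partB g18 id133 [11, 13, 11, 13] 4 = true := by decide +kernel

theorem pair3_5 : ∀ k, k < 5 → partB g18 id133 [11, 13, 11, 13] k = true
  | 0, _ => pair3_5_part0
  | 1, _ => pair3_5_part1
  | 2, _ => pair3_5_part2
  | 3, _ => pair3_5_part3
  | 4, _ => pair3_5_part4
  | k + 5, h => absurd h (by omega)

theorem pair2_7_part0 : partB g18 id133 [10, 15, 10, 15] 0 = true := by decide +kernel

theorem pair2_7_part1 : partB g18 id133 [10, 15, 10, 15] 1 = true := by decide +kernel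

theorem pair2_7_part2 : partB g18 id133 [10, 15, 10, 15] 2 = true := by decide +kernel

theorem pair2_7_part3 : partB g18 id133 [10, 15, 10, 15] 3 = true := by decide +kernel

theorem pair2_7_part4 : partB g18 id133 [10, 15, 10, 15] 4 = true := by decide +kernel

theorem pair2_7 : ∀ k, k < 5 → partB g18 id133 [10, 15, 10, 15] k = true
  | 0, _ => pair2_7_part0
  | 1, _ => pair2_7_part1
  | 2, _ => pair2_7_part2
  | 3, _ => pair2_7_part3
  | 4, _ => pair2_7_part4
  | k + 5, h => absurd h (by omega)

theorem pair2_3_part0 : partB g18 id133 [10, 11, 10, 11] 0 = true := by decide +kernel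

theorem pair2_3_part1 : partB g18 id133 [10, 11, 10, 11] 1 = true := by decide +kernel

theorem pair2_3_part2 : partB g18 id133 [10, 11, 10, 11] 2 = true := by decide +kernel

theorem pair2_3_part3 : partB g18 id133 [10, 11, 10, 11] 3 = true := by decide +kernel

theorem pair2_3_part4 : partB g18 id133 [10, 11, 10, 11] 4 = true := by decide +kernel

theorem pair2_3 : ∀ k, k < 5 → partB g18 id133 [10, 11, 10, 11] k = true
  | 0, _ => pair2_3_part0
  | 1, _ => pair2_3_part1
  | 2, _ => pair2_3_part2
  | 3, _ => pair2_3_part3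
  | 4, _ => pair2_3_part4
  | k + 5, h => absurd h (by omega)

theorem pair1_4_part0 : partB g18 id133 [9, 12, 9, 12] 0 = true := by decide +kernel

theorem pair1_4_part1 : partB g18 id133 [9, 12, 9, 12] 1 = true := by decide +kernel

theorem pair1_4_part2 : partB g18 id133 [9, 12, 9, 12] 2 = true := by decide +kernel

theorem pair1_4_part3 : partB g18 id133 [9, 12, 9, 12] 3 = true := by decide +kernel

theorem pair1_4_part4 : partB g18 id133 [9, 12, 9, 12] 4 = true := by decide +kernel

theorem pair1_4 : ∀ k, k < 5 → partB g18 id133 [9, 12, 9, 12] k = true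
  | 0, _ => pair1_4_part0
  | 1, _ => pair1_4_part1
  | 2, _ => pair1_4_part2
  | 3, _ => pair1_4_part3
  | 4, _ => pair1_4_part4
  | k + 5, h => absurd h (by omega)

theorem pair0_4_part0 : partB g18 id133 [8, 12, 8, 12] 0 = true := by decide +kernel

theorem pair0_4_part1 : partB g18 id133 [8, 12, 8, 12] 1 = true := by decide +kernel

theorem pair0_4_part2 : partB g18 id133 [8, 12, 8, 12] 2 = true := by decide +kernel

theorem pair0_4_part3 : partB g18 id133 [8, 12, 8, 12] 3 = true := by decide +kernel

theorem pair0_4_part4 : partB g18 id133 [8, 12, 8, 12] 4 = true := by decide +kernel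

theorem pair0_4 : ∀ k, k < 5 → partB g18 id133 [8, 12, 8, 12] k = true
  | 0, _ => pair0_4_part0
  | 1, _ => pair0_4_part1
  | 2, _ => pair0_4_part2
  | 3, _ => pair0_4_part3
  | 4, _ => pair0_4_part4
  | k + 5, h => absurd h (by omega)

theorem cube5_part0 : partB g18 id133 [13, 13, 13] 0 = true := by decide +kernel

theorem cube5_part1 : partB g18 id133 [13, 13, 13] 1 = true := by decide +kernel

theorem cube5_part2 : partB g18 id133 [13, 13, 13] 2 = true := by decide +kernel

theorem cube5_part3 : partB g18 id133 [13, 13, 13] 3 = true := by decide +kernel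

theorem cube5_part4 : partB g18 id133 [13, 13, 13] 4 = true := by decide +kernel

theorem cube5 : ∀ k, k < 5 → partB g18 id133 [13, 13, 13] k = true
  | 0, _ => cube5_part0
  | 1, _ => cube5_part1
  | 2, _ => cube5_part2
  | 3, _ => cube5_part3
  | 4, _ => cube5_part4
  | k + 5, h => absurd h (by omega)

end Cfsg.Agent.HNA12
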