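import Cfsg.Agent.HNA12.Chunk

/-! Generated: kernel checks. -/

set_option Elab.async false
set_option maxRecDepth 100000

namespace Cfsg.Agent.HNA12

open Cfsg.Agent.HNSub

theorem prod5_part0 : partB m133 (rowsOf 133 am5) (aw.getD 5 []) 0 = true := by decide +kernel

theorem prod5_part1 : partB m133 (rowsOf 133 am5) (aw.getD 5 []) 1 = true := by decide +kernel

theorem prod5_part2 : partB m133 (rowsOf 133 am5) (aw.getD 5 []) 2 = true := by decide +kernel

theorem prod5_part3 : partB m133 (rowsOf 133 am5) (aw.getD 5 []) 3 = true := by decide +kernel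

theorem prod5_part4 : partB m133 (rowsOf 133 am5) (aw.getD 5 []) 4 = true := by decide +kernel

theorem prod5 : ∀ k, k < 5 → partB m133 (rowsOf 133 am5) (aw.getD 5 []) k = true
  | 0, _ => prod5_part0
  | 1, _ => prod5_part1
  | 2, _ => prod5_part2
  | 3, _ => prod5_part3
  | 4, _ => prod5_part4
  | k + 5, h => absurd h (by omega)

theorem prod3_part0 : partB m133 (rowsOf 133 am3) (aw.getD 3 []) 0 = true := by decide +kernel

theorem prod3_part1 : partB m133 (rowsOf 133 am3) (aw.getD 3 []) 1 = true := by decide +kernel

theorem prod3_part2 : partB m133 (rowsOf 133 am3) (aw.getD 3 []) 2 = true := by decide +kernel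

theorem prod3_part3 : partB m133 (rowsOf 133 am3) (aw.getD 3 []) 3 = true := by decide +kernel

theorem prod3_part4 : partB m133 (rowsOf 133 am3) (aw.getD 3 []) 4 = true := by decide +kernel

theorem prod3 : ∀ k, k < 5 → partB m133 (rowsOf 133 am3) (aw.getD 3 []) k = true
  | 0, _ => prod3_part0
  | 1, _ => prod3_part1
  | 2, _ => prod3_part2
  | 3, _ => prod3_part3
  | 4, _ => prod3_part4
  | k + 5, h => absurd h (by omega)

theorem pair5_6_part0 : partB g18 id133 [13, 14, 13, 14] 0 = true := by decide +kernel

theorem pair5_6_part1 : partB g18 id133 [13, 14, 13, 14] 1 = true := by decide +kernel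

theorem pair5_6_part2 : partB g18 id133 [13, 14, 13, 14] 2 = true := by decide +kernel

theorem pair5_6_part3 : partB g18 id133 [13, 14, 13, 14] 3 = true := by decide +kernel

theorem pair5_6_part4 : partB g18 id133 [13, 14, 13, 14] 4 = true := by decide +kernel

theorem pair5_6 : ∀ k, k < 5 → partB g18 id133 [13, 14, 13, 14] k = true
  | 0, _ => pair5_6_part0
  | 1, _ => pair5_6_part1
  | 2, _ => pair5_6_part2
  | 3, _ => pair5_6_part3
  | 4, _ => pair5_6_part4
  | k + 5, h => absurd h (by omega)

theorem pair4_6_part0 : partB g18 id133 [12, 14, 12, 14] 0 = true := by decide +kernel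

theorem pair4_6_part1 : partB g18 id133 [12, 14, 12, 14] 1 = true := by decide +kernel

theorem pair4_6_part2 : partB g18 id133 [12, 14, 12, 14] 2 = true := by decide +kernel

theorem pair4_6_part3 : partB g18 id133 [12, 14, 12, 14] 3 = true := by decide +kernel

theorem pair4_6_part4 : partB g18 id133 [12, 14, 12, 14] 4 = true := by decide +kernel

theorem pair4_6 : ∀ k, k < 5 → partB g18 id133 [12, 14, 12, 14] k = true
  | 0, _ => pair4_6_part0
  | 1, _ => pair4_6_part1
  | 2, _ => pair4_6_part2
  | 3, _ => pair4_6_part3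
  | 4, _ => pair4_6_part4
  | k + 5, h => absurd h (by omega)

theorem pair3_7_part0 : partB g18 id133 [11, 15, 11, 15] 0 = true := by decide +kernel

theorem pair3_7_part1 : partB g18 id133 [11, 15, 11, 15] 1 = true := by decide +kernel

theorem pair3_7_part2 : partB g18 id133 [11, 15, 11, 15] 2 = true := by decide +kernel

theorem pair3_7_part3 : partB g18 id133 [11, 15, 11, 15] 3 = true := by decide +kernel

theorem pair3_7_part4 : partB g18 id133 [11, 15, 11, 15] 4 = true := by decide +kernel

theorem pair3_7 : ∀ k, k < 5 → partB g18 id133 [11, 15, 11, 15] k = true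
  | 0, _ => pair3_7_part0
  | 1, _ => pair3_7_part1
  | 2, _ => pair3_7_part2
  | 3, _ => pair3_7_part3
  | 4, _ => pair3_7_part4
  | k + 5, h => absurd h (by omega)

theorem pair2_9_part0 : partB g18 id133 [10, 17, 10, 17] 0 = true := by decide +kernel

theorem pair2_9_part1 : partB g18 id133 [10, 17, 10, 17] 1 = true := by decide +kernel

theorem pair2_9_part2 : partB g18 id133 [10, 17, 10, 17] 2 = true := by decide +kernel

theorem pair2_9_part3 : partB g18 id133 [10, 17, 10, 17] 3 = true := by decide +kernel

theorem pair2_9_part4 : partB g18 id133 [10, 17, 10, 17] 4 = true := by decide +kernel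

theorem pair2_9 : ∀ k, k < 5 → partB g18 id133 [10, 17, 10, 17] k = true
  | 0, _ => pair2_9_part0
  | 1, _ => pair2_9_part1
  | 2, _ => pair2_9_part2
  | 3, _ => pair2_9_part3
  | 4, _ => pair2_9_part4
  | k + 5, h => absurd h (by omega)

theorem pair2_5_part0 : partB g18 id133 [10, 13, 10, 13] 0 = true := by decide +kernel

theorem pair2_5_part1 : partB g18 id133 [10, 13, 10, 13] 1 = true := by decide +kernel

theorem pair2_5_part2 : partB g18 id133 [10, 13, 10, 13] 2 = true := by decide +kernel

theorem pair2_5_part3 : partB g18 id133 [10, 13, 10, 13] 3 = true := by decide +kernel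

theorem pair2_5_part4 : partB g18 id133 [10, 13, 10, 13] 4 = true := by decide +kernel

theorem pair2_5 : ∀ k, k < 5 → partB g18 id133 [10, 13, 10, 13] k = true
  | 0, _ => pair2_5_part0
  | 1, _ => pair2_5_part1
  | 2, _ => pair2_5_part2
  | 3, _ => pair2_5_part3
  | 4, _ => pair2_5_part4
  | k + 5, h => absurd h (by omega)

theorem pair1_8_part0 : partB g18 id133 [9, 16, 9, 16] 0 = true := by decide +kernel

theorem pair1_8_part1 : partB g18 id133 [9, 16, 9, 16] 1 = true := by decide +kernel

theorem pair1_8_part2 : partB g18 id133 [9, 16, 9, 16] 2 = true := by decide +kernel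

theorem pair1_8_part3 : partB g18 id133 [9, 16, 9, 16] 3 = true := by decide +kernel

theorem pair1_8_part4 : partB g18 id133 [9, 16, 9, 16] 4 = true := by decide +kernel

theorem pair1_8 : ∀ k, k < 5 → partB g18 id133 [9, 16, 9, 16] k = true
  | 0, _ => pair1_8_part0
  | 1, _ => pair1_8_part1
  | 2, _ => pair1_8_part2
  | 3, _ => pair1_8_part3
  | 4, _ => pair1_8_part4
  | k + 5, h => absurd h (by omega)

theorem pair1_2_part0 : partB g18 id133 [9, 10, 9, 10] 0 = true := by decide +kernel

theorem pair1_2_part1 : partB g18 id133 [9, 10, 9, 10] 1 = true := by decide +kernel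

theorem pair1_2_part2 : partB g18 id133 [9, 10, 9, 10] 2 = true := by decide +kernel

theorem pair1_2_part3 : partB g18 id133 [9, 10, 9, 10] 3 = true := by decide +kernel

theorem pair1_2_part4 : partB g18 id133 [9, 10, 9, 10] 4 = true := by decide +kernel

theorem pair1_2 : ∀ k, k < 5 → partB g18 id133 [9, 10, 9, 10] k = true
  | 0, _ => pair1_2_part0
  | 1, _ => pair1_2_part1
  | 2, _ => pair1_2_part2
  | 3, _ => pair1_2_part3
  | 4, _ => pair1_2_part4
  | k + 5, h => absurd h (by omega)

theorem pair0_2_part0 : partB g18 id133 [8, 10, 8, 10] 0 = true := by decide +kernel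

theorem pair0_2_part1 : partB g18 id133 [8, 10, 8, 10] 1 = true := by decide +kernel

theorem pair0_2_part2 : partB g18 id133 [8, 10, 8, 10] 2 = true := by decide +kernel

theorem pair0_2_part3 : partB g18 id133 [8, 10, 8, 10] 3 = true := by decide +kernel

theorem pair0_2_part4 : partB g18 id133 [8, 10, 8, 10] 4 = true := by decide +kernel

theorem pair0_2 : ∀ k, k < 5 → partB g18 id133 [8, 10, 8, 10] k = true
  | 0, _ => pair0_2_part0
  | 1, _ => pair0_2_part1
  | 2, _ => pair0_2_part2
  | 3, _ => pair0_2_part3
  | 4, _ => pair0_2_part4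
  | k + 5, h => absurd h (by omega)

theorem cube3_part0 : partB g18 id133 [11, 11, 11] 0 = true := by decide +kernel

theorem cube3_part1 : partB g18 id133 [11, 11, 11] 1 = true := by decide +kernel

theorem cube3_part2 : partB g18 id133 [11, 11, 11] 2 = true := by decide +kernel

theorem cube3_part3 : partB g18 id133 [11, 11, 11] 3 = true := by decide +kernel

theorem cube3_part4 : partB g18 id133 [11, 11, 11] 4 = true := by decide +kernel

theorem cube3 : ∀ k, k < 5 → partB g18 id133 [11, 11, 11] k = true
  | 0, _ => cube3_part0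
  | 1, _ => cube3_part1
  | 2, _ => cube3_part2
  | 3, _ => cube3_part3
  | 4, _ => cube3_part4
  | k + 5, h => absurd h (by omega)

end Cfsg.Agent.HNA12
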