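import Cfsg.Agent.HNA12.Words

/-!
Checks of products of matrices, twenty-eight rows at a time.
-/

set_option autoImplicit false
set_option maxRecDepth 100000

namespace Cfsg.Agent.HNA12

open Cfsg.Agent.HNSub

/-- The rows with numbers from `28 * k` to `28 * k + 27`. -/
def part (k : Nat) (A : List Nat) : List Nat := (A.drop (28 * k)).take 28

/-- The product over a word is `T`, in the rows of one part. -/
noncomputable def partB (G : Nat → List Blk) (T w : List Nat) (k : Nat) : Bool :=
  relB mask133 G (part k id133) (part k T) w

theorem eq_of_parts {A B : List Nat} (hA : A.length ≤ 140) (hB : B.length ≤ 140)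
    (h : ∀ k, k < 5 → part k A = part k B) : A = B := by
  have split : ∀ L : List Nat, L.length ≤ 140 →
      L = part 0 L ++ (part 1 L ++ (part 2 L ++ (part 3 L ++ part 4 L))) := by
    intro L hL
    have e : ∀ m, L.drop m = (L.drop m).take 28 ++ L.drop (m + 28) := fun m => by
      rw [← List.drop_drop, List.take_append_drop]
    simp only [part]
    conv_lhs => rw [← List.drop_zero (l := L), e 0, e 28, e (28 + 28), e (28 + 28 + 28), e (28 + 28 + 28 + 28)]
    rw [List.drop_eq_nil_of_le (show L.length ≤ 28 + 28 + 28 + 28 + 28 by omega), List.append_nil]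
  rw [split A hA, split B hB, h 0 (by omega), h 1 (by omega), h 2 (by omega), h 3 (by omega), h 4 (by omega)]

theorem map_eq_of_parts {G : Nat → List Blk} {T w : List Nat} (hT : T.length ≤ 140)
    (h : ∀ k, k < 5 → partB G T w k = true) : id133.map (rowW mask133 G w) = T := by
  refine eq_of_parts (by rw [List.length_map]; exact le_of_eq_of_le (by decide +kernel) (by norm_num : 133 ≤ 140))
    hT fun k hk => ?_
  rw [← relB_eq _ _ _ (h k hk)]
  simp only [part, List.map_take, List.map_drop]

end Cfsg.Agent.HNA12
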