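import Cfsg.Agent.HNA12.Alt

/-!
The Harada–Norton group as a transitive permutation group of degree 1140000: the action on the cosets of
an alternating subgroup of degree twelve.
-/

set_option autoImplicit false

namespace Cfsg.Agent.HNA12

open Cfsg.Agent.HNSub Equiv

/-- A simple group of order 273030912000000 with an alternating subgroup of degree twelve is a transitive
permutation group of degree 1140000 with that subgroup as a point stabiliser. -/
theorem perm_realization {G : Type*} [Group G] (hG : Cfsg.IsHN G) (φ : alternatingGroup (Fin 12) →* G)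
    (hφ : Function.Injective φ) :
    ∃ H : Subgroup (Equiv.Perm (Fin 1140000)), Cfsg.IsHN H ∧ MulAction.IsPretransitive H (Fin 1140000) ∧
      Nonempty (MulAction.stabilizer H (0 : Fin 1140000) ≃* alternatingGroup (Fin 12)) := by
  obtain ⟨hs, hcard⟩ := hG
  have hfin : Finite G := Nat.finite_of_card_ne_zero (by rw [hcard]; norm_num)
  set K : Subgroup G := φ.range with hK
  have hKcard : Nat.card K = 239500800 := by
    rw [hK, ← Nat.card_congr (MonoidHom.ofInjective hφ).toEquiv]
    have h := two_mul_nat_card_alternatingGroup (α := Fin 12)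
    rw [Nat.card_perm, Nat.card_fin] at h
    have : Nat.factorial 12 = 479001600 := by decide
    omega
  have hidx : Nat.card (G ⧸ K) = 1140000 := by
    have h := Subgroup.card_eq_card_quotient_mul_card_subgroup K
    rw [hcard, hKcard] at h
    exact Nat.eq_of_mul_eq_mul_right (show 0 < 239500800 by norm_num) (h.symm.trans (by norm_num))
  have hfq : Finite (G ⧸ K) := Nat.finite_of_card_ne_zero (by rw [hidx]; norm_num)
  obtain ⟨e₀⟩ : Nonempty (G ⧸ K ≃ Fin 1140000) :=
    ⟨(Finite.equivFin (G ⧸ K)).trans (finCongr hidx)⟩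
  let e : G ⧸ K ≃ Fin 1140000 := e₀.trans (Equiv.swap (e₀ ((1 : G) : G ⧸ K)) 0)
  have he : e ((1 : G) : G ⧸ K) = 0 := by simp [e]
  let π : G →* Equiv.Perm (Fin 1140000) := (e.permCongrHom.toMonoidHom).comp (MulAction.toPermHom G (G ⧸ K))
  have hπ : ∀ (g : G) (q : G ⧸ K), π g (e q) = e (g • q) := by
    intro g q
    simp [π, Equiv.permCongr_apply]
  have hne : π.ker ≠ ⊤ := by
    intro h
    have h1 : ∀ g : G, g ∈ K := by
      intro g
      have hg : π g = 1 := MonoidHom.mem_ker.1 (h ▸ Subgroup.mem_top g)
      have h2 := hπ g ((1 : G) : G ⧸ K)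
      rw [hg, Equiv.Perm.one_apply] at h2
      have h3 := e.injective h2
      rw [MulAction.Quotient.smul_mk, smul_eq_mul, mul_one, QuotientGroup.eq, inv_one, one_mul] at h3
      exact h3
    have h4 : Nat.card K = Nat.card G := by
      rw [(eq_top_iff.2 fun g _ => h1 g : K = ⊤), Subgroup.card_top]
    rw [hKcard, hcard] at h4
    norm_num at h4
  have hπinj : Function.Injective π := by
    rw [← MonoidHom.ker_eq_bot_iff]
    exact (hs.eq_bot_or_eq_top_of_normal π.ker π.normal_ker).resolve_right hne
  let eH : G ≃* π.range := MonoidHom.ofInjective hπinj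
  refine ⟨π.range, ⟨eH.symm.isSimpleGroup, ?_⟩, ⟨fun a b => ?_⟩, ?_⟩
  · rw [← Nat.card_congr eH.toEquiv, hcard]
  · obtain ⟨g, hg⟩ := MulAction.exists_smul_eq G (e.symm a) (e.symm b)
    refine ⟨eH g, ?_⟩
    show π g a = b
    rw [← e.apply_symm_apply a, hπ, hg, e.apply_symm_apply]
  · have hmem : ∀ g : G, eH g ∈ MulAction.stabilizer π.range (0 : Fin 1140000) ↔ g ∈ K := by
      intro g
      rw [MulAction.mem_stabilizer_iff]
      show π g 0 = 0 ↔ _
      conv_lhs => rw [← he, hπ]
      rw [e.apply_eq_iff_eq, MulAction.Quotient.smul_mk, smul_eq_mul, mul_one, eq_comm, QuotientGroup.eq,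
        inv_one, one_mul]
    have hmap : K.map eH.toMonoidHom = MulAction.stabilizer π.range (0 : Fin 1140000) := by
      ext x
      constructor
      · rintro ⟨g, hg, rfl⟩
        exact (hmem g).2 hg
      · intro hx
        refine ⟨eH.symm x, (hmem _).1 (by rwa [MulEquiv.apply_symm_apply]), MulEquiv.apply_symm_apply _ _⟩
    exact ⟨(MulEquiv.subgroupCongr hmap).symm.trans
      ((eH.subgroupMap K).symm.trans (MonoidHom.ofInjective hφ).symm)⟩

/-- The presented Harada–Norton group acts on 1140000 points with alternating point stabilisers. -/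
theorem hn_realization (hG : Cfsg.IsHN Cfsg.Spor.HN) :
    ∃ H : Subgroup (Equiv.Perm (Fin 1140000)), Cfsg.IsHN H ∧ MulAction.IsPretransitive H (Fin 1140000) ∧
      Nonempty (MulAction.stabilizer H (0 : Fin 1140000) ≃* alternatingGroup (Fin 12)) := by
  obtain ⟨φ, hφ⟩ := exists_alt_hom hG
  exact perm_realization hG φ hφ

end Cfsg.Agent.HNA12
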