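import Cfsg.Agent.HNA12.Check0
import Cfsg.Agent.HNA12.Check1
import Cfsg.Agent.HNA12.Check2
import Cfsg.Agent.HNA12.Check3
import Cfsg.Agent.HNA12.Check4
import Cfsg.Agent.HNA12.Check5
import Cfsg.Agent.HNA12.Check6
import Cfsg.Agent.HNA12.Check7

/-! Generated: the checks, indexed. -/

set_option maxRecDepth 100000

namespace Cfsg.Agent.HNA12

open Cfsg.Agent.HNSub

theorem prodB : ∀ i, i < 10 → ∀ k, k < 5 → partB m133 (rowsOf 133 (g18 (8 + i))) (aw.getD i []) k = true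
  | 0, _ => prod0
  | 1, _ => prod1
  | 2, _ => prod2
  | 3, _ => prod3
  | 4, _ => prod4
  | 5, _ => prod5
  | 6, _ => prod6
  | 7, _ => prod7
  | 8, _ => prod8
  | 9, _ => prod9
  | k + 10, h => absurd h (by omega)

theorem cubeB : ∀ i, i < 10 → ∀ k, k < 5 → partB g18 id133 [8 + i, 8 + i, 8 + i] k = true
  | 0, _ => cube0
  | 1, _ => cube1
  | 2, _ => cube2
  | 3, _ => cube3
  | 4, _ => cube4
  | 5, _ => cube5
  | 6, _ => cube6
  | 7, _ => cube7
  | 8, _ => cube8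
  | 9, _ => cube9
  | k + 10, h => absurd h (by omega)

theorem pairB : ∀ i j, i < j → j < 10 → ∀ k, k < 5 → partB g18 id133 [8 + i, 8 + j, 8 + i, 8 + j] k = true
  | 0, 0, h, _ => absurd h (by omega)
  | 0, 1, _, _ => pair0_1
  | 0, 2, _, _ => pair0_2
  | 0, 3, _, _ => pair0_3
  | 0, 4, _, _ => pair0_4
  | 0, 5, _, _ => pair0_5
  | 0, 6, _, _ => pair0_6
  | 0, 7, _, _ => pair0_7
  | 0, 8, _, _ => pair0_8
  | 0, 9, _, _ => pair0_9
  | 1, 0, h, _ => absurd h (by omega)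
  | 1, 1, h, _ => absurd h (by omega)
  | 1, 2, _, _ => pair1_2
  | 1, 3, _, _ => pair1_3
  | 1, 4, _, _ => pair1_4
  | 1, 5, _, _ => pair1_5
  | 1, 6, _, _ => pair1_6
  | 1, 7, _, _ => pair1_7
  | 1, 8, _, _ => pair1_8
  | 1, 9, _, _ => pair1_9
  | 2, 0, h, _ => absurd h (by omega)
  | 2, 1, h, _ => absurd h (by omega)
  | 2, 2, h, _ => absurd h (by omega)
  | 2, 3, _, _ => pair2_3
  | 2, 4, _, _ => pair2_4
  | 2, 5, _, _ => pair2_5
  | 2, 6, _, _ => pair2_6
  | 2, 7, _, _ => pair2_7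
  | 2, 8, _, _ => pair2_8
  | 2, 9, _, _ => pair2_9
  | 3, 0, h, _ => absurd h (by omega)
  | 3, 1, h, _ => absurd h (by omega)
  | 3, 2, h, _ => absurd h (by omega)
  | 3, 3, h, _ => absurd h (by omega)
  | 3, 4, _, _ => pair3_4
  | 3, 5, _, _ => pair3_5
  | 3, 6, _, _ => pair3_6
  | 3, 7, _, _ => pair3_7
  | 3, 8, _, _ => pair3_8
  | 3, 9, _, _ => pair3_9
  | 4, 0, h, _ => absurd h (by omega)
  | 4, 1, h, _ => absurd h (by omega)
  | 4, 2, h, _ => absurd h (by omega)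
  | 4, 3, h, _ => absurd h (by omega)
  | 4, 4, h, _ => absurd h (by omega)
  | 4, 5, _, _ => pair4_5
  | 4, 6, _, _ => pair4_6
  | 4, 7, _, _ => pair4_7
  | 4, 8, _, _ => pair4_8
  | 4, 9, _, _ => pair4_9
  | 5, 0, h, _ => absurd h (by omega)
  | 5, 1, h, _ => absurd h (by omega)
  | 5, 2, h, _ => absurd h (by omega)
  | 5, 3, h, _ => absurd h (by omega)
  | 5, 4, h, _ => absurd h (by omega)
  | 5, 5, h, _ => absurd h (by omega)
  | 5, 6, _, _ => pair5_6
  | 5, 7, _, _ => pair5_7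
  | 5, 8, _, _ => pair5_8
  | 5, 9, _, _ => pair5_9
  | 6, 0, h, _ => absurd h (by omega)
  | 6, 1, h, _ => absurd h (by omega)
  | 6, 2, h, _ => absurd h (by omega)
  | 6, 3, h, _ => absurd h (by omega)
  | 6, 4, h, _ => absurd h (by omega)
  | 6, 5, h, _ => absurd h (by omega)
  | 6, 6, h, _ => absurd h (by omega)
  | 6, 7, _, _ => pair6_7
  | 6, 8, _, _ => pair6_8
  | 6, 9, _, _ => pair6_9
  | 7, 0, h, _ => absurd h (by omega)
  | 7, 1, h, _ => absurd h (by omega)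
  | 7, 2, h, _ => absurd h (by omega)
  | 7, 3, h, _ => absurd h (by omega)
  | 7, 4, h, _ => absurd h (by omega)
  | 7, 5, h, _ => absurd h (by omega)
  | 7, 6, h, _ => absurd h (by omega)
  | 7, 7, h, _ => absurd h (by omega)
  | 7, 8, _, _ => pair7_8
  | 7, 9, _, _ => pair7_9
  | 8, 0, h, _ => absurd h (by omega)
  | 8, 1, h, _ => absurd h (by omega)
  | 8, 2, h, _ => absurd h (by omega)
  | 8, 3, h, _ => absurd h (by omega)
  | 8, 4, h, _ => absurd h (by omega)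
  | 8, 5, h, _ => absurd h (by omega)
  | 8, 6, h, _ => absurd h (by omega)
  | 8, 7, h, _ => absurd h (by omega)
  | 8, 8, h, _ => absurd h (by omega)
  | 8, 9, _, _ => pair8_9
  | 9, 0, h, _ => absurd h (by omega)
  | 9, 1, h, _ => absurd h (by omega)
  | 9, 2, h, _ => absurd h (by omega)
  | 9, 3, h, _ => absurd h (by omega)
  | 9, 4, h, _ => absurd h (by omega)
  | 9, 5, h, _ => absurd h (by omega)
  | 9, 6, h, _ => absurd h (by omega)
  | 9, 7, h, _ => absurd h (by omega)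
  | 9, 8, h, _ => absurd h (by omega)
  | 9, 9, h, _ => absurd h (by omega)
  | i + 10, j, h, h' => absurd h' (by omega)
  | i, j + 10, _, h' => absurd h' (by omega)

end Cfsg.Agent.HNA12
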