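import Cfsg.Agent.HNSub.Maps
import Cfsg.Agent.HNA12.Mat0
import Cfsg.Agent.HNA12.Mat1
import Cfsg.Agent.HNA12.Mat2
import Cfsg.Agent.HNA12.Mat3
import Cfsg.Agent.HNA12.Mat4
import Cfsg.Agent.HNA12.Mat5
import Cfsg.Agent.HNA12.Mat6
import Cfsg.Agent.HNA12.Mat7
import Cfsg.Agent.HNA12.Mat8
import Cfsg.Agent.HNA12.Mat9

/-! Generated: words in the generators of the presented Harada–Norton group for ten elements of order three. -/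

set_option maxRecDepth 100000

namespace Cfsg.Agent.HNA12

open Cfsg.Agent.HNSub

/-- The words, in numbered letters. -/
def aw : List (List Nat) := [
  [0, 5, 2, 5, 0, 2, 1, 1, 2, 5, 2, 5, 2, 1, 2, 0, 1, 0, 5, 0, 5],
  [5, 5, 0, 1, 0, 1, 0, 1, 1, 1, 0, 5, 5, 4, 5, 0],
  [1, 0, 5, 5, 0, 1, 1, 1, 0, 5, 0, 5, 5, 0, 1, 1, 0, 1, 0, 1, 0],
  [0, 1, 0, 5, 0, 1, 1, 1, 0, 5, 0, 5, 4, 1, 1],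
  [0, 5, 5, 0, 1, 0, 1, 0, 1, 1, 1, 0, 5, 5, 4, 5],
  [1, 0, 1, 2, 5, 5, 0, 1, 1, 1, 0, 5, 0, 2, 5, 0, 1, 1, 0],
  [5, 4, 3, 5, 2, 4, 7, 5, 5, 5, 2, 3, 4, 5, 2, 4, 5, 2, 7, 0, 2, 5, 0, 1, 0, 1, 2, 1, 1, 0, 1, 0, 1, 4, 5, 2, 5, 2, 3, 2, 1, 0, 2, 1, 0, 7, 2, 1, 1, 1, 3, 0, 2, 1, 7, 0, 1],
  [5, 4, 3, 5, 2, 4, 7, 5, 5, 5, 2, 3, 4, 5, 2, 4, 5, 2, 7, 0, 1, 0, 1, 0, 5, 0, 5, 0, 1, 4, 1, 1, 2, 5, 0, 5, 2, 5, 3, 2, 1, 0, 2, 1, 0, 7, 2, 1, 1, 1, 3, 0, 2, 1, 7, 0, 1],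
  [5, 4, 3, 5, 2, 4, 7, 5, 5, 5, 2, 3, 4, 5, 2, 4, 5, 2, 7, 0, 1, 0, 5, 0, 5, 0, 5, 5, 0, 1, 1, 1, 4, 1, 0, 1, 0, 5, 0, 5, 0, 3, 2, 1, 0, 2, 1, 0, 7, 2, 1, 1, 1, 3, 0, 2, 1, 7, 0, 1],
  [5, 4, 3, 5, 2, 4, 7, 5, 5, 5, 2, 3, 4, 5, 2, 4, 5, 2, 7, 5, 5, 0, 1, 0, 5, 5, 0, 5, 0, 5, 5, 0, 1, 1, 0, 1, 0, 5, 0, 5, 3, 2, 1, 0, 2, 1, 0, 7, 2, 1, 1, 1, 3, 0, 2, 1, 7, 0, 1]]

/-- The matrices of the eight letters followed by those of the ten words. -/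
def g18 (x : Nat) : List Blk :=
  [hm0, hm1, hm2, hm3, hm4, hm5, hm6, hm7, am0, am1, am2, am3, am4, am5, am6, am7, am8, am9].getD x hm0

end Cfsg.Agent.HNA12
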